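import Groth.Agent.LinSys.ImageSub
import Groth.Agent.CurveEmbed.Points
import Groth.Agent.RegLoc6.Normal
import Groth.Agent.S3572
import Groth.Prelude.Def_LinSer

/-!
# The morphism of a linear series on a regular curve
-/

set_option autoImplicit false
set_option linter.style.haveILetI false
set_option backward.isDefEq.respectTransparency false
set_option backward.isDefEq.respectTransparency.types false

universe u

open CategoryTheory CategoryTheory.Limits AlgebraicGeometry TopologicalSpace Opposite

namespace Groth.Agent.LinSys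

theorem valuationRing_stalk (k : Type u) [Field k] {X : Scheme.{u}} [X.Over (Spec (CommRingCat.of k))]
    [IsIntegral X] [IsProper (X ↘ (Spec (CommRingCat.of k)))] (hdim : topologicalKrullDim X = 1)
    (hreg : ∀ x : X, IsRegularLocalRing (X.presheaf.stalk x)) (x : X) : ValuationRing (X.presheaf.stalk x) := by
  haveI := CurveCohLib.isNoetherian_of_proper (k := k) (X := X)
  haveI : CompactSpace X := inferInstance
  by_cases hx : IsClosed ({x} : Set X)
  · haveI := hreg x
    haveI := CurveEmbed.isDVR_of_normal k hdim hx (RegLoc6.isIntegrallyClosed_of_isRegularLocalRing _)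
    infer_instance
  · rw [CurveCohLib.eq_genericPoint_of_not_isClosed hdim hx]
    exact inferInstanceAs (ValuationRing X.functionField)

theorem exists_ne_zero {k : Type u} [Field k] {X : Scheme.{u}} [X.Over (Spec (CommRingCat.of k))]
    {L : X.Modules} {r : ℕ} {s : Fin (r + 1) → LinSer.Sect X L} (h : LinSer.LinIndep k X L s) :
    ∃ i, (show Γ(L, ⊤) from s i) ≠ 0 := by
  refine ⟨0, fun h0 => ?_⟩
  have := h (Pi.single 0 1) (by
    rw [Finset.sum_eq_single (0 : Fin (r + 1))]
    · rw [show s 0 = 0 from h0, smul_zero]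
    · intro i _ hi
      rw [Pi.single_eq_of_ne hi, map_zero, zero_smul]
    · simp)
  simpa using congrFun this 0

theorem exists_morphism (k : Type u) [Field k] {X : Scheme.{u}} [X.Over (Spec (CommRingCat.of k))]
    [IsIntegral X] [IsProper (X ↘ (Spec (CommRingCat.of k)))] (hdim : topologicalKrullDim X = 1)
    (hreg : ∀ x : X, IsRegularLocalRing (X.presheaf.stalk x))
    {d r : ℕ} {L : X.Modules} {s : Fin (r + 1) → LinSer.Sect X L} (hL : LinSer.IsLinSer k X L d r s) :
    ∃ (φ : X ⟶ CohB1.ProjSpace r k) (α : (Scheme.Modules.pullback φ).obj (Twist.twistProjSpace r k 1) ⟶ L),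
      φ ≫ CohB1.ProjSpace.toSpec r k = X ↘ (Spec (CommRingCat.of k)) ∧
        ∀ i, α.app ⊤ (ProjUP.pullSec φ (Twist.twistProjSpace r k 1) (ProjUP.coord r k i)) = s i := by
  obtain ⟨L', j, s', hL', hgen, hj⟩ := exists_invertible_sub (fun i => (show Γ(L, ⊤) from s i)) hL.1
    (exists_ne_zero hL.2.2) (valuationRing_stalk k hdim hreg)
  obtain ⟨φ, hφ, τ, hτ⟩ := S3572.result r (X ↘ (Spec (CommRingCat.of k))) L' hL' s' hgen
  exact ⟨φ, τ.hom ≫ j, hφ, fun i => (congrArg (j.app ⊤) (hτ i)).trans (hj i)⟩

end Groth.Agent.LinSys
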