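import Groth.Agent.Lib.P1Bundle
import Groth.Agent.Lib.AmpleEmbed
import Groth.Agent.CurveFinMap.Degree
import Groth.Agent.CurveBC.Geometry
import Groth.Agent.Lib.CurveDeg
import Groth.Agent.LinSys.Curve

/-!
The degree of the morphism given by a pencil on a curve.
-/

universe u

open CategoryTheory CategoryTheory.Limits AlgebraicGeometry TopologicalSpace Opposite

noncomputable section

namespace Groth.Agent.LinSys

open Groth.Agent

variable {k : Type u} [Field k] {X : Scheme.{u}}

theorem finrank_stalk_eq_residueDegree {Y : Scheme.{u}} [IsIntegral X] [IsIntegral Y] (f : X ⟶ Y)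
    (hη : f (genericPoint X) = genericPoint Y) :
    (letI := (f.stalkMap (genericPoint X)).hom.toAlgebra
     Module.finrank (Y.presheaf.stalk (f (genericPoint X))) X.functionField) =
      f.residueDegree (genericPoint X) := by
  let := (f.residueFieldMap (genericPoint X)).hom.toAlgebra
  let := (f.stalkMap (genericPoint X)).hom.toAlgebra
  exact Algebra.finrank_eq_of_equiv_equiv (RingEquiv.ofBijective _ (S11584.bijective_residue hη))
    (RingEquiv.ofBijective _ (S11584.bijective_residue (Y := X) rfl)) (RingHom.ext fun z =>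
      congr($(Scheme.residue_residueFieldMap f (genericPoint X)) z))

theorem deg_tw_one (k : Type u) [Field k] :
    Curv2.deg k (CohB1.ProjSpace 1 k) (P1Bundle.tw k 1) 1 = 1 := by
  unfold Curv2.deg
  rw [P1Bundle.euler_tw, P1Bundle.euler_O]
  norm_num

variable [X.Over (Spec (CommRingCat.of k))] [IsIntegral X] [IsProper (X ↘ (Spec (CommRingCat.of k)))]

/-- A morphism to the line given by two independent sections has degree at most that of the bundle. -/
theorem degree_le (hdim : topologicalKrullDim X = 1) {L : X.Modules} (hL : PicF.IsInvertible L)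
    (φ : X ⟶ CohB1.ProjSpace 1 k) (hφ : φ ≫ CohB1.ProjSpace.toSpec 1 k = X ↘ (Spec (CommRingCat.of k)))
    (α : (Scheme.Modules.pullback φ).obj (Twist.twistProjSpace 1 k 1) ⟶ L) (hα : α ≠ 0)
    (hη : ¬ IsClosed ({φ (genericPoint X)} : Set (CohB1.ProjSpace 1 k))) :
    (letI := (φ.stalkMap (genericPoint X)).hom.toAlgebra
     (Module.finrank ((CohB1.ProjSpace 1 k).presheaf.stalk (φ (genericPoint X))) X.functionField : ℤ)) ≤
      Curv2.deg k X L 1 := by
  haveI : CompactSpace (CohB1.ProjSpace 1 k) :=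
    QuasiCompact.compactSpace_of_compactSpace ((CohB1.ProjSpace 1 k) ↘ Spec (CommRingCat.of k))
  have hgen : φ (genericPoint X) = genericPoint (CohB1.ProjSpace 1 k) :=
    CurveCohLib.eq_genericPoint_of_not_isClosed (P1Bundle.hdim k) hη
  haveI : IsFinite φ := CurveFinMap.isFinite_of_generic k hdim (P1Bundle.hdim k) φ hφ hgen
  rw [finrank_stalk_eq_residueDegree φ hgen]
  have h := CurveFinMap.deg_pullback k φ (P1Bundle.hdim k) hφ hgen
    (InvEnd.isFinLocFreeOfRank_one (P1Bundle.inv_tw k 1))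
  rw [deg_tw_one, mul_one] at h
  rw [← h]
  exact (CurveDeg.deg_le_and_isIso k hdim.le (PicClLib.isInvertible_pullback φ (P1Bundle.inv_tw k 1)) hL α hα).1

/-- If a morphism given by two independent sections is constant then there are non-constant functions. -/
theorem finrank_ne_one {L : X.Modules} {s : Fin (1 + 1) → Γ(L, ⊤)} (hs : LinSer.LinIndep k X L s)
    (φ : X ⟶ CohB1.ProjSpace 1 k) (α : (Scheme.Modules.pullback φ).obj (Twist.twistProjSpace 1 k 1) ⟶ L)
    (hα : ∀ i, α.app ⊤ (ProjUP.pullSec φ (Twist.twistProjSpace 1 k 1) (ProjUP.coord 1 k i)) = s i)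
    {p : CohB1.ProjSpace 1 k} (hp : Set.range φ ⊆ {p}) :
    Module.finrank k (Coh.HH X (Coh.structureModule X) 0) ≠ 1 := by
  intro h0
  have hex : p ∈ ⨆ i : Fin (1 + 1), Proj.basicOpen (CohB1.polyGrading 1 k) (MvPolynomial.X i) := by
    rw [AmpleEmbed.iSup_basicOpen_X]
    trivial
  obtain ⟨i, hi⟩ := Opens.mem_iSup.1 hex
  have hloc := AmpleEmbed.preimage_chart φ (Iso.refl _) i
    (s := ProjUP.pullSec φ (Twist.twistProjSpace 1 k 1) (ProjUP.coord 1 k i)) rfl
  have htop : φ ⁻¹ᵁ Proj.basicOpen (CohB1.polyGrading 1 k) (MvPolynomial.X i) = ⊤ :=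
    top_le_iff.1 fun x _ => by
      show φ x ∈ Proj.basicOpen (CohB1.polyGrading 1 k) (MvPolynomial.X i)
      rw [Set.mem_singleton_iff.1 (hp ⟨x, rfl⟩)]
      exact hi
  rw [htop] at hloc
  have hfr := H23.TrivBasic.locus_eq_top_iff.1 hloc.symm
  let j : Fin (1 + 1) := if i = 0 then 1 else 0
  have hji : j ≠ i := by
    fin_cases i <;> simp [j]
  obtain ⟨g, hg⟩ := (hfr ⊤ le_rfl).2 (ProjUP.pullSec φ (Twist.twistProjSpace 1 k 1) (ProjUP.coord 1 k j))
  obtain ⟨c', hc⟩ := (CurveBC.bijective_appTop k X h0).2 g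
  let c : k := (Scheme.ΓSpecIso (CommRingCat.of k)).hom c'
  have hgc : Coh.toGlobal (X ↘ Spec (CommRingCat.of k)) c = g := by
    show (X ↘ Spec (CommRingCat.of k)).appTop ((Scheme.ΓSpecIso (CommRingCat.of k)).inv c) = g
    rw [show (Scheme.ΓSpecIso (CommRingCat.of k)).inv c = c' from Iso.hom_inv_id_apply _ c', hc]
  have hsj : s j = g • s i := by
    rw [← hα j, ← hα i, ← hg]
    show α.app ⊤ (g • AModX.res _ le_rfl _) = _
    rw [AModX.res_self, Scheme.Modules.Hom.app_smul]
  have hz := hs (fun l => if l = j then -1 else c) ?_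
  · have := congrFun hz j
    simp at this
  · have hu : (Finset.univ : Finset (Fin (1 + 1))) = {j, i} := by
      refine Finset.eq_univ_of_forall (fun l => ?_) |>.symm
      simp only [Finset.mem_insert, Finset.mem_singleton, j]
      fin_cases i <;> fin_cases l <;> simp
    rw [hu, Finset.sum_pair hji]
    simp only [↓reduceIte, if_neg hji.symm, map_neg, map_one, neg_smul, one_smul]
    rw [hgc]
    show -(s j : Γ(L, ⊤)) + g • s i = 0
    rw [hsj, neg_add_cancel]

/-- The morphism given by a pencil has degree at most that of the pencil or is constant. -/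
theorem degree_le_or_constant (hdim : topologicalKrullDim X = 1) {d : ℕ} {L : X.Modules}
    {s : Fin (1 + 1) → LinSer.Sect X L} (hL : LinSer.IsLinSer k X L d 1 s)
    (φ : X ⟶ CohB1.ProjSpace 1 k) (α : (Scheme.Modules.pullback φ).obj (Twist.twistProjSpace 1 k 1) ⟶ L)
    (hφ : φ ≫ CohB1.ProjSpace.toSpec 1 k = X ↘ (Spec (CommRingCat.of k)))
    (hα : ∀ i, α.app ⊤ (ProjUP.pullSec φ (Twist.twistProjSpace 1 k 1) (ProjUP.coord 1 k i)) = s i) :
    ((¬ ∃ p : CohB1.ProjSpace 1 k, IsClosed ({p} : Set (CohB1.ProjSpace 1 k)) ∧ Set.range φ ⊆ {p}) ∧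
      (letI := (φ.stalkMap (genericPoint X)).hom.toAlgebra
       Module.finrank ((CohB1.ProjSpace 1 k).presheaf.stalk (φ (genericPoint X))) X.functionField ≤ d)) ∨
    ((∃ p : CohB1.ProjSpace 1 k, IsClosed ({p} : Set (CohB1.ProjSpace 1 k)) ∧ Set.range φ ⊆ {p}) ∧
      Module.finrank k (Coh.HH X (Coh.structureModule X) 0) ≠ 1) := by
  by_cases hc : ∃ p : CohB1.ProjSpace 1 k, IsClosed ({p} : Set (CohB1.ProjSpace 1 k)) ∧ Set.range φ ⊆ {p}
  · obtain ⟨p, hp1, hp2⟩ := hc
    exact Or.inr ⟨⟨p, hp1, hp2⟩, finrank_ne_one hL.2.2 φ α hα hp2⟩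
  · refine Or.inl ⟨hc, ?_⟩
    have hη : ¬ IsClosed ({φ (genericPoint X)} : Set (CohB1.ProjSpace 1 k)) := fun hcl => hc
      ⟨_, hcl, by
        rintro _ ⟨x, rfl⟩
        exact ((((genericPoint_spec X).specializes (Set.mem_univ x)).map φ.continuous).mem_closed hcl rfl)⟩
    have hne : α ≠ 0 := by
      rintro rfl
      have h0 : ∀ i, s i = 0 := fun i => (hα i).symm
      exact one_ne_zero (congrFun (hL.2.2 (fun _ => 1) (by simp [h0])) 0)
    exact_mod_cast (degree_le hdim hL.1 φ hφ α hne hη).trans_eq hL.2.1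

end Groth.Agent.LinSys
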