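import Groth.Agent.CurveCohLib.Polar
import Groth.Agent.InvX.GenLocus
import Groth.Agent.Lib.AVAmple
import Groth.Agent.QCoh.CokerQC
import Groth.Agent.ZClosLib.Basic
import Mathlib.RingTheory.Valuation.ValuationRing

/-!
# The invertible submodule generated by sections on a scheme with valuation local rings
-/

set_option autoImplicit false
set_option linter.style.haveILetI false
set_option linter.unusedSectionVars false
set_option backward.isDefEq.respectTransparency false
set_option backward.isDefEq.respectTransparency.types false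
set_option synthInstance.maxHeartbeats 100000

universe u

open CategoryTheory CategoryTheory.Limits AlgebraicGeometry TopologicalSpace Opposite

noncomputable section

namespace Groth.Agent.LinSys

open Groth.Agent Groth.Agent.InvX Groth.Agent.CurveCohLib.Polar

theorem exists_dvd_all {R : Type*} [CommRing R] [IsDomain R] [ValuationRing R] {ι : Type*} [Nonempty ι]
    [Finite ι] (g : ι → R) : ∃ i, ∀ l, g i ∣ g l := by
  classical
  haveI := Fintype.ofFinite ι
  suffices h : ∀ s : Finset ι, s.Nonempty → ∃ i ∈ s, ∀ l ∈ s, g i ∣ g l by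
    obtain ⟨i, -, hi⟩ := h Finset.univ Finset.univ_nonempty
    exact ⟨i, fun l => hi l (Finset.mem_univ l)⟩
  intro s hs
  induction hs using Finset.Nonempty.cons_induction with
  | singleton a => exact ⟨a, Finset.mem_singleton_self a, fun l hl => by rw [Finset.mem_singleton.1 hl]⟩
  | cons a s ha hs ih =>
    obtain ⟨i, hi, hd⟩ := ih
    rcases ValuationRing.dvd_total (g a) (g i) with h | h
    · exact ⟨a, Finset.mem_cons_self a s, fun l hl => by
        rcases Finset.mem_cons.1 hl with rfl | hl
        exacts [dvd_rfl, h.trans (hd l hl)]⟩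
    · exact ⟨i, Finset.mem_cons_of_mem hi, fun l hl => by
        rcases Finset.mem_cons.1 hl with rfl | hl
        exacts [h, hd l hl]⟩

variable {X : Scheme.{u}} [IsIntegral X] {L : X.Modules}

/-- Near every point all sections are multiples of one of them. -/
theorem exists_dominant (hL : PicF.IsInvertible L) {n : ℕ} (s : Fin n → Γ(L, ⊤)) (hne : ∃ i, s i ≠ 0)
    (x : X) [ValuationRing (X.presheaf.stalk x)] :
    ∃ (U : X.Opens) (_ : x ∈ U) (e : Γ(L, U)) (i : Fin n) (g : Γ(X, U)) (v : Fin n → Γ(X, U)),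
      IsFrame e ∧ g ≠ 0 ∧ AModX.res L (le_top : U ≤ ⊤) (s i) = g • e ∧
        ∀ l, AModX.res L (le_top : U ≤ ⊤) (s l) = v l • AModX.res L (le_top : U ≤ ⊤) (s i) := by
  classical
  obtain ⟨U, hx, e, he⟩ := exists_frame hL x
  choose g hg using fun l => he.exists_coord le_rfl (AModX.res L (le_top : U ≤ ⊤) (s l))
  simp only [AModX.res_self] at hg
  obtain ⟨i₀, hi₀⟩ := hne
  haveI : Nonempty (Fin n) := ⟨i₀⟩
  obtain ⟨i, hi⟩ := exists_dvd_all fun l => X.presheaf.germ U x hx (g l)
  have hgi : g i ≠ 0 := fun h => hi₀ (AModX.eq_of_locally _ _ fun y _ => by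
    obtain ⟨W, hy, e', he'⟩ := exists_frame hL y
    refine ⟨W, le_top, hy, ?_⟩
    rw [map_zero]
    obtain ⟨c, hc⟩ := he'.exists_coord le_rfl (AModX.res L (le_top : W ≤ ⊤) (s i₀))
    rw [AModX.res_self] at hc
    have hg0 : g i₀ = 0 := germ_injective_of_isIntegral X x hx (by
      obtain ⟨c', hc'⟩ := hi i₀
      rw [map_zero, hc', h, map_zero, zero_mul])
    have hη : genericPoint X ∈ U ⊓ W := ⟨eta_mem hx, eta_mem hy⟩
    obtain ⟨r, hr⟩ := he'.exists_coord (inf_le_right : U ⊓ W ≤ W) (AModX.res L inf_le_left e)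
    have h1 := congrArg (AModX.res L (inf_le_right : U ⊓ W ≤ W)) hc
    have h2 := congrArg (AModX.res L (inf_le_left : U ⊓ W ≤ U)) (hg i₀)
    rw [AModX.res_res, AModX.res_smul] at h1 h2
    rw [hg0, map_zero, zero_smul] at h2
    have h3 : AModX.resR (inf_le_right : U ⊓ W ≤ W) c = 0 :=
      he'.coord_unique inf_le_right (h1.symm.trans (h2.trans (zero_smul _ _).symm))
    have h4 : c = 0 := gη_injective hy (by
      rw [map_zero, ← gη_res (inf_le_right : U ⊓ W ≤ W) hη hy c]
      exact (congrArg (gη hη) h3).trans (map_zero _))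
    rw [hc, h4, zero_smul])
  choose c hc using hi
  choose W hxW w hw using fun l => X.presheaf.exists_germ_eq (c l)
  let U' : X.Opens := U ⊓ ⟨⋂ l, (W l : Set X), isOpen_iInter_of_finite fun l => (W l).isOpen⟩
  have hx' : x ∈ U' := ⟨hx, Set.mem_iInter.2 hxW⟩
  have hWl : ∀ l, U' ≤ W l := fun l y hy => Set.mem_iInter.1 hy.2 l
  refine ⟨U', hx', AModX.res L inf_le_left e, i, AModX.resR inf_le_left (g i), fun l => AModX.resR (hWl l) (w l),
    he.res _, fun h => hgi (gη_injective (x := x) hx (by
      rw [map_zero, ← gη_res (inf_le_left : U' ≤ U) hx' hx (g i), h, map_zero])), ?_, fun l => ?_⟩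
  · rw [← AModX.res_smul, ← hg i, AModX.res_res]
  · have h1 := congrArg (AModX.res L (inf_le_left : U' ≤ U)) (hg l)
    have h2 := congrArg (AModX.res L (inf_le_left : U' ≤ U)) (hg i)
    rw [AModX.res_res, AModX.res_smul] at h1 h2
    rw [h1, h2, ← mul_smul]
    refine congrArg (· • AModX.res L inf_le_left e) (germ_injective_of_isIntegral X x hx' ?_)
    rw [map_mul, show X.presheaf.germ U' x hx' (AModX.resR inf_le_left (g l)) = X.presheaf.germ U x hx (g l) from
        X.presheaf.germ_res_apply _ _ _ _,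
      show X.presheaf.germ U' x hx' (AModX.resR inf_le_left (g i)) = X.presheaf.germ U x hx (g i) from
        X.presheaf.germ_res_apply _ _ _ _,
      show X.presheaf.germ U' x hx' (AModX.resR (hWl l) (w l)) = X.presheaf.germ (W l) x (hxW l) (w l) from
        X.presheaf.germ_res_apply _ _ _ _, hw, hc, mul_comm]

/-- Evaluation of morphisms at a section. -/
def evalAt {M N : X.Modules} (V : X.Opens) (a : Γ(M, V)) : (M ⟶ N) →+ Γ(N, V) :=
  AddMonoidHom.mk' (fun φ => φ.app V a) fun _ _ => rfl

attribute [local instance] Abelian.hasFiniteBiproducts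

variable {n : ℕ} (s : Fin n → Γ(L, ⊤))

/-- The map from the free module given by the sections. -/
def spanMap : (⨁ fun _ : Fin n => Coh.structureModule X) ⟶ L := biproduct.desc fun l => ofSect (s l)

theorem spanMap_app (V : X.Opens) (a : Γ(⨁ fun _ : Fin n => Coh.structureModule X, V)) :
    (spanMap s).app V a = ∑ l, (show Γ(X, V) from (biproduct.π (fun _ : Fin n => Coh.structureModule X) l).app V a) • AModX.res L le_top (s l) := by
  rw [spanMap, biproduct.desc_eq]
  show evalAt V a (∑ l, _) = _
  rw [map_sum]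
  rfl

theorem exists_invertible_sub (hL : PicF.IsInvertible L) (hne : ∃ i, s i ≠ 0)
    (hval : ∀ x : X, ValuationRing (X.presheaf.stalk x)) :
    ∃ (L' : X.Modules) (j : L' ⟶ L) (s' : Fin n → Γ(L', ⊤)),
      PicF.IsInvertible L' ∧ ProjUP.GeneratedBy L' s' ∧ ∀ l, j.app ⊤ (s' l) = s l := by
  classical
  let Φ := spanMap s
  let j := Abelian.image.ι Φ
  let π := Abelian.factorThruImage Φ
  let s' : Fin n → Γ(Abelian.image Φ, ⊤) := fun l =>
    (biproduct.ι (fun _ : Fin n => Coh.structureModule X) l ≫ π).app ⊤ (1 : Γ(X, ⊤))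
  have hj : ∀ l, j.app ⊤ (s' l) = s l := fun l => by
    show ((biproduct.ι _ l ≫ π) ≫ j).app ⊤ (1 : Γ(X, ⊤)) = s l
    rw [Category.assoc, Abelian.image.fac, show Φ = spanMap s from rfl, spanMap, biproduct.ι_desc]
    exact one_ofSect (s l)
  have hframe : ∀ x, ∃ (i : Fin n) (U : X.Opens), x ∈ U ∧ IsFrame (AModX.res (Abelian.image Φ) (le_top : U ≤ ⊤) (s' i)) := by
    intro x
    haveI := hval x
    obtain ⟨U, hx, e, i, g, v, he, hg0, hsi, hsl⟩ := exists_dominant hL s hne x
    refine ⟨i, U, hx, fun V hV => ⟨?_, fun y => ?_⟩⟩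
    · intro r r' hrr
      have h1 := congrArg (j.app V) hrr
      simp only [Scheme.Modules.Hom.app_smul] at h1
      rw [AModX.app_res j, AModX.app_res j, hj, hsi, AModX.res_smul, ← mul_smul, ← mul_smul] at h1
      rcases Set.eq_empty_or_nonempty (V : Set X) with h0 | ⟨p, hp⟩
      · exact AModX.eq_of_locally (M := Coh.structureModule X) _ _ fun q hq =>
          absurd (show q ∈ (V : Set X) from hq) (by rw [h0]; exact Set.notMem_empty q)
      haveI : Nonempty V := ⟨⟨p, hp⟩⟩
      refine mul_right_cancel₀ (fun h => hg0 (gη_injective (x := x) hx ?_)) (he.coord_unique hV h1)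
      rw [map_zero, ← gη_res hV hp (y := x) hx g, h, map_zero]
    · -- local coordinates
      have hloc : ∀ p ∈ V, ∃ (W : X.Opens) (hW : W ≤ V), p ∈ W ∧ ∃ r : Γ(X, W),
          j.app W (AModX.res _ hW y) = r • AModX.res L le_top (s i) := by
        intro p hp
        obtain ⟨W, hW, hpW, a, ha⟩ := QCoh.exists_local_preimage π y hp
        refine ⟨W, hW, hpW, ∑ l, (show Γ(X, W) from (biproduct.π (fun _ : Fin n => Coh.structureModule X) l).app W a) * AModX.resR (hW.trans hV) (v l), ?_⟩
        rw [show AModX.res _ hW y = π.app W a from ha.symm]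
        show (π ≫ j).app W a = _
        rw [Abelian.image.fac, spanMap_app, Finset.sum_smul]
        refine Finset.sum_congr rfl fun l _ => ?_
        rw [mul_smul]
        refine congrArg (_ • ·) ?_
        have := congrArg (AModX.res L (hW.trans hV)) (hsl l)
        rwa [AModX.res_res, AModX.res_smul, AModX.res_res] at this
      choose W hWV hpW r hr using hloc
      have hinj : ∀ (Z : X.Opens) (hZ : Z ≤ U) (q q' : Γ(X, Z)),
          q • AModX.res L le_top (s i) = q' • AModX.res L (le_top : Z ≤ ⊤) (s i) → q = q' := by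
        intro Z hZ q q' h
        have h1 := congrArg (AModX.res L hZ) hsi
        rw [AModX.res_res, AModX.res_smul] at h1
        rw [h1, ← mul_smul, ← mul_smul] at h
        rcases Set.eq_empty_or_nonempty (Z : Set X) with h0 | ⟨p, hp⟩
        · exact AModX.eq_of_locally (M := Coh.structureModule X) _ _ fun q hq =>
            absurd (show q ∈ (Z : Set X) from hq) (by rw [h0]; exact Set.notMem_empty q)
        haveI : Nonempty Z := ⟨⟨p, hp⟩⟩
        refine mul_right_cancel₀ (fun h => hg0 (gη_injective (x := x) hx ?_)) (he.coord_unique hZ h)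
        rw [map_zero, ← gη_res hZ hp (y := x) hx g, h, map_zero]
      obtain ⟨t, ht, -⟩ := AModX.existsUnique_glue (M := Coh.structureModule X) (V := V)
        (fun p : (V : Set X) => W p.1 p.2) (fun p => hWV p.1 p.2)
        (fun p hp => ⟨⟨p, hp⟩, hpW p hp⟩) (fun p => r p.1 p.2) fun a b => by
          refine hinj _ ((inf_le_left.trans (hWV a.1 a.2)).trans hV) _ _ ?_
          have h1 := congrArg (AModX.res L (inf_le_left : W a.1 a.2 ⊓ W b.1 b.2 ≤ W a.1 a.2)) (hr a.1 a.2)
          have h2 := congrArg (AModX.res L (inf_le_right : W a.1 a.2 ⊓ W b.1 b.2 ≤ W b.1 b.2)) (hr b.1 b.2)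
          rw [AModX.res_smul, AModX.res_res, ← AModX.app_res, AModX.res_res] at h1 h2
          exact h1.symm.trans h2
      refine ⟨t, AModX.eq_of_locally _ _ fun p hp => ⟨W p hp, hWV p hp, hpW p hp, ?_⟩⟩
      haveI : Mono j := inferInstance
      have hjinj : Function.Injective (j.app (W p hp)) := ZClosLib.app_injective_of_mono j _
      refine hjinj ?_
      rw [AModX.res_smul, Scheme.Modules.Hom.app_smul, AModX.res_res, AModX.res_res, AModX.app_res j (le_top : W p hp ≤ ⊤) (s' i), hj, hr p hp]
      exact congrArg (· • _) (ht ⟨p, hp⟩)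
  refine ⟨Abelian.image Φ, j, s', InvX.isInvertible_of_frames fun x => ?_,
    AVAmple.generatedBy_of_locus s' fun x => ?_, hj⟩
  · obtain ⟨i, U, hx, h⟩ := hframe x
    exact ⟨U, hx, _, h⟩
  · obtain ⟨i, U, hx, h⟩ := hframe x
    exact ⟨i, H23.TrivBasic.mem_locus_iff.2 ⟨U, hx, h⟩⟩

end Groth.Agent.LinSys
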